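import Mathlib
import Cfsg.Prelude.Def_ParabolicCharacters
import Cfsg.Prelude.Def_LieExceptional
import Cfsg.Agent.Lib.Helper5.GLUBruhat
import Cfsg.Agent.Lib.Helper6.BNWords

/-!
# Classical (B,N)-pairs by descent from `GL_n`: definitions

* `Bor = Cfsg.upperTriangularGL n F`, `BorL` (lower triangular), `Tor` (diagonal), `Uni`, `Low`
  (upper / lower unitriangular), `Mon` (monomial), `simples` (adjacent transposition matrices).
* `formGrp A φ`: the matrices `g` with `g * A * (g.map φ)ᵀ = A`.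
* `Sharp`, `Twist`: the abstract hypotheses of the descent theorem.
-/

set_option autoImplicit false

namespace Cfsg.Agent.Lib.Helper42.ClBN

open Matrix Cfsg.Agent.Lib.Helper5.GLU Cfsg.Agent.Lib.Helper6
open scoped MatrixGroups

variable {n : ℕ} {F : Type*} [Field F]

/-- the standard Borel subgroup -/
abbrev Bor (n : ℕ) (F : Type*) [Field F] : Subgroup (GL (Fin n) F) := Cfsg.upperTriangularGL n F

/-- the lower triangular subgroup -/
def BorL (n : ℕ) (F : Type*) [Field F] : Subgroup (GL (Fin n) F) where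
  carrier := {g | (g : Matrix (Fin n) (Fin n) F).BlockTriangular OrderDual.toDual}
  mul_mem' := fun {a} {b} ha hb => by
    change ((a : Matrix (Fin n) (Fin n) F) * (b : Matrix (Fin n) (Fin n) F)).BlockTriangular _
    exact Matrix.BlockTriangular.mul ha hb
  one_mem' := by
    change (1 : Matrix (Fin n) (Fin n) F).BlockTriangular _
    exact Matrix.blockTriangular_one
  inv_mem' := fun {a} ha => by
    change ((a⁻¹ : GL (Fin n) F) : Matrix (Fin n) (Fin n) F).BlockTriangular _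
    have : Invertible (a : Matrix (Fin n) (Fin n) F) := a.invertible
    rw [Matrix.coe_units_inv]
    exact Matrix.blockTriangular_inv_of_blockTriangular ha

lemma mem_Bor {g : GL (Fin n) F} :
    g ∈ Bor n F ↔ ∀ i j : Fin n, j < i → (g : Matrix (Fin n) (Fin n) F) i j = 0 := Iff.rfl

lemma mem_BorL {g : GL (Fin n) F} :
    g ∈ BorL n F ↔ ∀ i j : Fin n, i < j → (g : Matrix (Fin n) (Fin n) F) i j = 0 := Iff.rfl

/-- the diagonal torus -/
def Tor (n : ℕ) (F : Type*) [Field F] : Subgroup (GL (Fin n) F) := Bor n F ⊓ BorL n F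

lemma mem_Tor {g : GL (Fin n) F} :
    g ∈ Tor n F ↔ ∀ i j : Fin n, i ≠ j → (g : Matrix (Fin n) (Fin n) F) i j = 0 := by
  constructor
  · rintro ⟨h1, h2⟩ i j hij
    rcases lt_or_gt_of_ne hij with h | h
    · exact h2 (show OrderDual.toDual j < OrderDual.toDual i from h)
    · exact h1 (show id j < id i from h)
  · intro h
    exact ⟨fun i j hij => h i j (ne_of_gt hij), fun i j hij => h i j (ne_of_lt hij)⟩

/-- diagonal entries of a product of upper triangular matrices -/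
lemma diag_mul_of_upper {a b : Matrix (Fin n) (Fin n) F} (ha : a.BlockTriangular id)
    (i : Fin n) : (a * b) i i = a i i * b i i + ∑ k ∈ Finset.univ.filter (fun k => i < k), a i k * b k i := by
  classical
  rw [Matrix.mul_apply, ← Finset.sum_filter_add_sum_filter_not Finset.univ (fun k => i < k), add_comm]
  congr 1
  rw [Finset.sum_eq_single i]
  · intro k hk hki
    simp only [Finset.mem_filter, Finset.mem_univ, true_and, not_lt] at hk
    rw [ha (lt_of_le_of_ne hk hki), zero_mul]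
  · intro hi
    simp at hi

lemma diag_mul_upper {a b : Matrix (Fin n) (Fin n) F} (ha : a.BlockTriangular id)
    (hb : b.BlockTriangular id) (i : Fin n) : (a * b) i i = a i i * b i i := by
  classical
  rw [diag_mul_of_upper ha, Finset.sum_eq_zero, add_zero]
  intro k hk
  simp only [Finset.mem_filter, Finset.mem_univ, true_and] at hk
  rw [hb hk, mul_zero]

lemma diag_mul_lower {a b : Matrix (Fin n) (Fin n) F} (ha : a.BlockTriangular OrderDual.toDual)
    (hb : b.BlockTriangular OrderDual.toDual) (i : Fin n) : (a * b) i i = a i i * b i i := by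
  classical
  rw [Matrix.mul_apply, Finset.sum_eq_single i]
  · intro k _ hki
    rcases lt_or_gt_of_ne hki with h | h
    · rw [hb (show OrderDual.toDual i < OrderDual.toDual k from h), mul_zero]
    · rw [ha (show OrderDual.toDual k < OrderDual.toDual i from h), zero_mul]
  · intro hi
    simp at hi

/-- the upper unitriangular subgroup -/
def Uni (n : ℕ) (F : Type*) [Field F] : Subgroup (GL (Fin n) F) where
  carrier := {g | g ∈ Bor n F ∧ ∀ i, (g : Matrix (Fin n) (Fin n) F) i i = 1}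
  mul_mem' := fun {a} {b} ha hb => by
    refine ⟨(Bor n F).mul_mem ha.1 hb.1, fun i => ?_⟩
    rw [Units.val_mul, diag_mul_upper ha.1 hb.1, ha.2, hb.2, one_mul]
  one_mem' := ⟨(Bor n F).one_mem, fun i => by simp⟩
  inv_mem' := fun {a} ha => by
    refine ⟨(Bor n F).inv_mem ha.1, fun i => ?_⟩
    have h1 : ((a * a⁻¹ : GL (Fin n) F) : Matrix (Fin n) (Fin n) F) i i = 1 := by simp
    rw [Units.val_mul, diag_mul_upper ha.1 ((Bor n F).inv_mem ha.1), ha.2, one_mul] at h1
    exact h1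

/-- the lower unitriangular subgroup -/
def Low (n : ℕ) (F : Type*) [Field F] : Subgroup (GL (Fin n) F) where
  carrier := {g | g ∈ BorL n F ∧ ∀ i, (g : Matrix (Fin n) (Fin n) F) i i = 1}
  mul_mem' := fun {a} {b} ha hb => by
    refine ⟨(BorL n F).mul_mem ha.1 hb.1, fun i => ?_⟩
    rw [Units.val_mul, diag_mul_lower ha.1 hb.1, ha.2, hb.2, one_mul]
  one_mem' := ⟨(BorL n F).one_mem, fun i => by simp⟩
  inv_mem' := fun {a} ha => by
    refine ⟨(BorL n F).inv_mem ha.1, fun i => ?_⟩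
    have h1 : ((a * a⁻¹ : GL (Fin n) F) : Matrix (Fin n) (Fin n) F) i i = 1 := by simp
    rw [Units.val_mul, diag_mul_lower ha.1 ((BorL n F).inv_mem ha.1), ha.2, one_mul] at h1
    exact h1

lemma mem_Uni {g : GL (Fin n) F} :
    g ∈ Uni n F ↔ (∀ i j : Fin n, j < i → (g : Matrix (Fin n) (Fin n) F) i j = 0) ∧
      ∀ i, (g : Matrix (Fin n) (Fin n) F) i i = 1 := Iff.rfl

lemma mem_Low {g : GL (Fin n) F} :
    g ∈ Low n F ↔ (∀ i j : Fin n, i < j → (g : Matrix (Fin n) (Fin n) F) i j = 0) ∧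
      ∀ i, (g : Matrix (Fin n) (Fin n) F) i i = 1 := Iff.rfl

lemma Uni_le_Bor : Uni n F ≤ Bor n F := fun _ h => h.1
lemma Low_le_BorL : Low n F ≤ BorL n F := fun _ h => h.1
lemma Tor_le_Bor : Tor n F ≤ Bor n F := inf_le_left
lemma Tor_le_BorL : Tor n F ≤ BorL n F := inf_le_right

/-- `g` is monomial with permutation `w`: the only nonzero entry of column `j` is in row `w j` -/
def IsMono (g : GL (Fin n) F) (w : Equiv.Perm (Fin n)) : Prop :=
  ∀ i j : Fin n, i ≠ w j → (g : Matrix (Fin n) (Fin n) F) i j = 0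

lemma IsMono.mul {g h : GL (Fin n) F} {w w' : Equiv.Perm (Fin n)} (hg : IsMono g w) (hh : IsMono h w') :
    IsMono (g * h) (w * w') := by
  intro i j hij
  rw [Units.val_mul, Matrix.mul_apply]
  apply Finset.sum_eq_zero
  intro k _
  by_cases hk : k = w' j
  · subst hk
    rw [hg i _ (by simpa using hij), zero_mul]
  · rw [hh k j hk, mul_zero]

lemma IsMono.one : IsMono (1 : GL (Fin n) F) 1 := by
  intro i j hij
  simp only [Equiv.Perm.coe_one, id_eq] at hij
  simp [Matrix.one_apply_ne hij]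

lemma IsMono.entry_ne_zero {g : GL (Fin n) F} {w : Equiv.Perm (Fin n)} (hg : IsMono g w) (j : Fin n) :
    (g : Matrix (Fin n) (Fin n) F) (w j) j ≠ 0 := by
  intro h0
  have h1 : ((g⁻¹ * g : GL (Fin n) F) : Matrix (Fin n) (Fin n) F) j j = 1 := by simp
  rw [Units.val_mul, Matrix.mul_apply] at h1
  rw [Finset.sum_eq_zero] at h1
  · exact zero_ne_one h1
  · intro k _
    by_cases hk : k = w j
    · rw [hk, h0, mul_zero]
    · rw [hg k j hk, mul_zero]

lemma IsMono.inv {g : GL (Fin n) F} {w : Equiv.Perm (Fin n)} (hg : IsMono g w) : IsMono g⁻¹ w⁻¹ := by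
  intro i j hij
  -- `(g⁻¹ * g) i (w⁻¹ j) = g⁻¹ i j * g j (w⁻¹ j)`
  have h1 : ((g⁻¹ * g : GL (Fin n) F) : Matrix (Fin n) (Fin n) F) i (w⁻¹ j) = 0 := by
    rw [inv_mul_cancel, Units.val_one, Matrix.one_apply_ne hij]
  rw [Units.val_mul, Matrix.mul_apply, Finset.sum_eq_single j] at h1
  · have h2 := hg.entry_ne_zero (w⁻¹ j)
    have h3 : w (w⁻¹ j) = j := w.apply_symm_apply j
    rw [h3] at h2
    exact (mul_eq_zero.mp h1).resolve_right h2
  · intro k _ hk
    have h3 : w (w⁻¹ j) = j := w.apply_symm_apply j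
    rw [hg k (w⁻¹ j) (by rwa [h3]), mul_zero]
  · intro h; simp at h

lemma IsMono.unique {g : GL (Fin n) F} {w w' : Equiv.Perm (Fin n)} (hg : IsMono g w) (hg' : IsMono g w') :
    w = w' := by
  ext j
  by_contra hne
  exact hg.entry_ne_zero j (hg' (w j) j (fun h => hne (congrArg Fin.val h)))

/-- the monomial subgroup -/
def Mon (n : ℕ) (F : Type*) [Field F] : Subgroup (GL (Fin n) F) where
  carrier := {g | ∃ w : Equiv.Perm (Fin n), IsMono g w}
  mul_mem' := fun {_} {_} ⟨w, hw⟩ ⟨w', hw'⟩ => ⟨w * w', hw.mul hw'⟩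
  one_mem' := ⟨1, IsMono.one⟩
  inv_mem' := fun {_} ⟨w, hw⟩ => ⟨w⁻¹, hw.inv⟩

lemma mem_Mon {g : GL (Fin n) F} : g ∈ Mon n F ↔ ∃ w : Equiv.Perm (Fin n), IsMono g w := Iff.rfl

lemma isMono_permGL (w : Equiv.Perm (Fin n)) : IsMono (permGL (F := F) w) w := by
  intro i j hij
  rw [permGL_apply, if_neg hij]

lemma permGL_mem_Mon (w : Equiv.Perm (Fin n)) : permGL (F := F) w ∈ Mon n F := ⟨w, isMono_permGL w⟩

/-- the adjacent transposition matrices -/
def simples (n : ℕ) (F : Type*) [Field F] : Set (GL (Fin n) F) :=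
  {g | ∃ i j : Fin n, j.val = i.val + 1 ∧ g = permGL (Equiv.swap i j)}

/-- the group of the sesquilinear form with Gram matrix `A` and field endomorphism `φ`:
the matrices `g` with `g * A * (g.map φ)ᵀ = A` -/
def formGrp (A : Matrix (Fin n) (Fin n) F) (φ : F →+* F) : Subgroup (GL (Fin n) F) where
  carrier := {g | (g : Matrix (Fin n) (Fin n) F) * A * ((g : Matrix (Fin n) (Fin n) F).map φ)ᵀ = A}
  mul_mem' := fun {a} {b} ha hb => by
    simp only [Set.mem_ofPred_eq] at ha hb ⊢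
    rw [Units.val_mul, Matrix.map_mul, Matrix.transpose_mul]
    calc (a : Matrix (Fin n) (Fin n) F) * b * A * (((b : Matrix (Fin n) (Fin n) F).map φ)ᵀ *
          ((a : Matrix (Fin n) (Fin n) F).map φ)ᵀ)
        = (a : Matrix (Fin n) (Fin n) F) * ((b : Matrix (Fin n) (Fin n) F) * A *
          ((b : Matrix (Fin n) (Fin n) F).map φ)ᵀ) * ((a : Matrix (Fin n) (Fin n) F).map φ)ᵀ := by
          simp only [Matrix.mul_assoc]
      _ = A := by rw [hb, ha]
  one_mem' := by simp
  inv_mem' := fun {a} ha => by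
    simp only [Set.mem_ofPred_eq] at ha ⊢
    have h1 : ((a⁻¹ : GL (Fin n) F) : Matrix (Fin n) (Fin n) F) * (a : Matrix (Fin n) (Fin n) F) = 1 := by
      rw [← Units.val_mul]; simp
    have h2 : ((a : Matrix (Fin n) (Fin n) F).map φ)ᵀ *
        (((a⁻¹ : GL (Fin n) F) : Matrix (Fin n) (Fin n) F).map φ)ᵀ = 1 := by
      rw [← Matrix.transpose_mul, ← Matrix.map_mul, h1]
      simp
    calc ((a⁻¹ : GL (Fin n) F) : Matrix (Fin n) (Fin n) F) * A *
          (((a⁻¹ : GL (Fin n) F) : Matrix (Fin n) (Fin n) F).map φ)ᵀ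
        = ((a⁻¹ : GL (Fin n) F) : Matrix (Fin n) (Fin n) F) * ((a : Matrix (Fin n) (Fin n) F) * A *
          ((a : Matrix (Fin n) (Fin n) F).map φ)ᵀ) *
          (((a⁻¹ : GL (Fin n) F) : Matrix (Fin n) (Fin n) F).map φ)ᵀ := by rw [ha]
      _ = (((a⁻¹ : GL (Fin n) F) : Matrix (Fin n) (Fin n) F) * (a : Matrix (Fin n) (Fin n) F)) * A *
          (((a : Matrix (Fin n) (Fin n) F).map φ)ᵀ *
          (((a⁻¹ : GL (Fin n) F) : Matrix (Fin n) (Fin n) F).map φ)ᵀ) := by
          simp only [Matrix.mul_assoc]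
      _ = A := by rw [h1, h2]; simp

lemma mem_formGrp {A : Matrix (Fin n) (Fin n) F} {φ : F →+* F} {g : GL (Fin n) F} :
    g ∈ formGrp A φ ↔
      (g : Matrix (Fin n) (Fin n) F) * A * ((g : Matrix (Fin n) (Fin n) F).map φ)ᵀ = A := Iff.rfl

/-- `A` is antidiagonal with nonzero antidiagonal entries -/
def IsAnti (A : Matrix (Fin n) (Fin n) F) : Prop :=
  (∀ i j : Fin n, j ≠ Fin.rev i → A i j = 0) ∧ ∀ i : Fin n, A i (Fin.rev i) ≠ 0


/-- the special linear group as a subgroup of `GL` -/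
def SLn (n : ℕ) (F : Type*) [Field F] : Subgroup (GL (Fin n) F) :=
  (Matrix.GeneralLinearGroup.det : GL (Fin n) F →* Fˣ).ker

lemma mem_SLn {g : GL (Fin n) F} : g ∈ SLn n F ↔ (g : Matrix (Fin n) (Fin n) F).det = 1 := by
  unfold SLn
  rw [MonoidHom.mem_ker]
  constructor
  · intro h
    have := congrArg Units.val h
    simpa using this
  · intro h
    apply Units.ext
    simpa using h

/-- the transvection `1 + c E_{ij}` as an element of `GL` (`1` if `i = j`) -/
noncomputable def tv (i j : Fin n) (c : F) : GL (Fin n) F :=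
  if h : i = j then 1 else
    Matrix.GeneralLinearGroup.mkOfDetNeZero (Matrix.transvection i j c)
      (by rw [Matrix.det_transvection_of_ne _ _ h]; exact one_ne_zero)

lemma tv_val {i j : Fin n} (h : i ≠ j) (c : F) :
    ((tv i j c : GL (Fin n) F) : Matrix (Fin n) (Fin n) F) = Matrix.transvection i j c := by
  unfold tv
  rw [dif_neg h]
  rfl

/-- `w` commutes with the order-reversing permutation -/
def RevComm (w : Equiv.Perm (Fin n)) : Prop := ∀ i : Fin n, w (Fin.rev i) = Fin.rev (w i)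

/-- the generators of the centraliser of `Fin.rev`: the longest elements of the orbits of the
order reversal on the adjacent transpositions -/
def revGens (n : ℕ) : Set (Equiv.Perm (Fin n)) :=
  {w | ∃ i j : Fin n, j.val = i.val + 1 ∧ 2 * i.val + 3 < n ∧
      w = Equiv.swap i j * Equiv.swap (Fin.rev j) (Fin.rev i)} ∪
  {w | ∃ i j : Fin n, j.val = i.val + 1 ∧ 2 * i.val + 2 = n ∧ w = Equiv.swap i j} ∪
  {w | ∃ i j : Fin n, j.val = i.val + 2 ∧ 2 * i.val + 3 = n ∧ w = Equiv.swap i j}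

/-- the Gram matrix of the symplectic form in the ordered basis `e₁, …, e_m, f_m, …, f₁` -/
def spGram (m : ℕ) (F : Type*) [Field F] : Matrix (Fin (m + m)) (Fin (m + m)) F :=
  fun i j => if j = Fin.rev i then (if i.val < m then -1 else 1) else 0

section abstract

variable {G : Type*} [Group G]

/-- sharp Bruhat form with respect to `U` and the opposite `V` -/
structure Sharp (P : Cfsg.BNPair G) (U V : Subgroup G) : Prop where
  U_le : U ≤ P.B
  ex : ∀ g : G, ∃ u ∈ U, ∃ m ∈ P.N, ∃ v ∈ U, m * v * m⁻¹ ∈ V ∧ g = u * m * v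
  uniq : ∀ u ∈ U, ∀ m ∈ P.N, ∀ v ∈ U, m * v * m⁻¹ ∈ V → ∀ u' ∈ U, ∀ m' ∈ P.N, ∀ v' ∈ U,
    m' * v' * m'⁻¹ ∈ V → u * m * v = u' * m' * v' → u = u' ∧ m = m' ∧ v = v'

/-- the hypotheses of the descent theorem for a subgroup `G₁` and a set `S₁` of new generators,
`wd s` a word in the old generators representing `s` -/
structure Twist (P : Cfsg.BNPair G) (U V : Subgroup G) (G₁ : Subgroup G) (S₁ : Set G)
    (wd : G → List G) : Prop where
  form : ∀ u ∈ U, ∀ m ∈ P.N, ∀ v ∈ U, m * v * m⁻¹ ∈ V → u * m * v ∈ G₁ → u ∈ G₁ ∧ m ∈ G₁ ∧ v ∈ G₁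
  S_mem : ∀ s ∈ S₁, s ∈ P.N ∧ s ∈ G₁
  word : ∀ s ∈ S₁, IsWord P.S (wd s) ∧ (wd s).prod⁻¹ * s ∈ P.B
  sub : ∀ s ∈ S₁, ∀ l' : List G, l'.Sublist (wd s) → ∀ t ∈ P.B ⊓ P.N, l'.prod * t ∈ G₁ →
    l'.prod ∈ P.B ∨ s⁻¹ * l'.prod ∈ P.B
  sq : ∀ s ∈ S₁, s * s ∈ P.B
  inj : ∀ s ∈ S₁, ∀ s' ∈ S₁, s⁻¹ * s' ∈ P.B → s = s'
  gen : ∀ m ∈ P.N ⊓ G₁, ∃ c ∈ Subgroup.closure S₁, c⁻¹ * m ∈ P.B
  ne : ∀ s ∈ S₁, ∃ b ∈ P.B ⊓ G₁, s * b * s ∉ P.B

end abstract

end Cfsg.Agent.Lib.Helper42.ClBN
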