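import Mathlib
import Cfsg.Agent.Lib.Helper42.ClBN.Defs
import Cfsg.Agent.Lib.Helper6.BNBruhat

/-!
# Descent of a (B,N)-pair to a subgroup closed under sharp Bruhat forms
-/

set_option autoImplicit false

namespace Cfsg.Agent.Lib.Helper42.ClBN

open Cfsg.Agent.Lib.Helper6

variable {G : Type*} [Group G] {P : Cfsg.BNPair G} {U V G₁ : Subgroup G} {S₁ : Set G}
  {wd : G → List G}

/-- a word times `b` times `m` lies in the double coset of a subword times `m` -/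
theorem exists_sublist_inDC (P : Cfsg.BNPair G) : ∀ (l : List G), IsWord P.S l → ∀ b ∈ P.B, ∀ m ∈ P.N,
    ∃ l' : List G, l'.Sublist l ∧ InDC P (l'.prod * m) (l.prod * b * m) := by
  intro l
  induction l with
  | nil =>
    intro _ b hb m _
    refine ⟨[], List.Sublist.refl _, ?_⟩
    simp only [List.prod_nil, one_mul]
    exact inDC_mul_left P hb (inDC_self P m)
  | cons s l ih =>
    intro hl b hb m hm
    rw [isWord_cons] at hl
    obtain ⟨l', hl', h⟩ := ih hl.2 b hb m hm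
    have hl'w : IsWord P.S l' := fun x hx => hl.2 x (hl'.subset hx)
    have hl'N : l'.prod * m ∈ P.N := P.N.mul_mem (prod_mem_N P hl'w) hm
    obtain ⟨x, hx, y, hy, e⟩ := h
    have e2 : (s :: l).prod * b * m = (s * x * (l'.prod * m)) * y := by
      rw [List.prod_cons]
      calc s * l.prod * b * m = s * (l.prod * b * m) := by group
        _ = s * (x * (l'.prod * m) * y) := by rw [e]
        _ = (s * x * (l'.prod * m)) * y := by group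
    rw [e2]
    rcases axiom_left P hl.1 hl'N hx with k | k
    · refine ⟨s :: l', List.Sublist.cons_cons s hl', ?_⟩
      rw [List.prod_cons, mul_assoc]
      exact inDC_mul_right P hy k
    · exact ⟨l', List.Sublist.cons s hl', inDC_mul_right P hy k⟩

namespace Twist

/-- descent of double cosets: `B m B ∩ G₁ = B₁ m B₁` for `m ∈ N ∩ G₁` -/
theorem inDC_descend (hS : Sharp P U V) (hT : Twist P U V G₁ S₁ wd) {g m : G} (hg : g ∈ G₁)
    (hm : m ∈ P.N ⊓ G₁) (h : InDC P m g) :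
    ∃ b₁ ∈ P.B ⊓ G₁, ∃ b₂ ∈ P.B ⊓ G₁, g = b₁ * m * b₂ := by
  obtain ⟨u, hu, m₁, hm₁, v, hv, hvV, e⟩ := hS.ex g
  obtain ⟨hu1, hm1, hv1⟩ := hT.form u hu m₁ hm₁ v hv hvV (e ▸ hg)
  have h1 : InDC P m₁ g := ⟨u, hS.U_le hu, v, hS.U_le hv, e⟩
  have h2 : InDC P m m₁ := inDC_trans P h (inDC_symm P h1)
  have h3 : m⁻¹ * m₁ ∈ P.B := bruhat_unique P hm.1 hm₁ h2
  refine ⟨u, ⟨hS.U_le hu, hu1⟩, (m⁻¹ * m₁) * v,
    ⟨P.B.mul_mem h3 (hS.U_le hv), G₁.mul_mem (G₁.mul_mem (G₁.inv_mem hm.2) hm1) hv1⟩, ?_⟩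
  rw [e]; group

/-- the exchange axiom in `G₁` -/
theorem exchange (hS : Sharp P U V) (hT : Twist P U V G₁ S₁ wd) {s : G} (hs : s ∈ S₁) {m b : G}
    (hm : m ∈ P.N ⊓ G₁) (hb : b ∈ P.B ⊓ G₁) :
    ∃ b₁ ∈ P.B ⊓ G₁, ∃ b₂ ∈ P.B ⊓ G₁, s * b * m = b₁ * (s * m) * b₂ ∨ s * b * m = b₁ * m * b₂ := by
  obtain ⟨hsN, hsG⟩ := hT.S_mem s hs
  obtain ⟨hw, hc⟩ := hT.word s hs
  have hg : s * b * m ∈ G₁ := G₁.mul_mem (G₁.mul_mem hsG hb.2) hm.2
  have e1 : s * b * m = (wd s).prod * (((wd s).prod⁻¹ * s) * b) * m := by group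
  obtain ⟨l', hl', h⟩ := exists_sublist_inDC P (wd s) hw (((wd s).prod⁻¹ * s) * b)
    (P.B.mul_mem hc hb.1) m hm.1
  rw [← e1] at h
  have hl'w : IsWord P.S l' := fun x hx => hw x (hl'.subset hx)
  have hl'N : l'.prod ∈ P.N := prod_mem_N P hl'w
  -- the sharp form of `s * b * m`
  obtain ⟨u, hu, m₁, hm₁, v, hv, hvV, e⟩ := hS.ex (s * b * m)
  obtain ⟨hu1, hm1, hv1⟩ := hT.form u hu m₁ hm₁ v hv hvV (e ▸ hg)
  have h1 : InDC P m₁ (s * b * m) := ⟨u, hS.U_le hu, v, hS.U_le hv, e⟩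
  have h2 : InDC P (l'.prod * m) m₁ := inDC_trans P h (inDC_symm P h1)
  have h3 : (l'.prod * m)⁻¹ * m₁ ∈ P.B := bruhat_unique P (P.N.mul_mem hl'N hm.1) hm₁ h2
  have h3N : (l'.prod * m)⁻¹ * m₁ ∈ P.N := P.N.mul_mem (P.N.inv_mem (P.N.mul_mem hl'N hm.1)) hm₁
  have h4 : m * ((l'.prod * m)⁻¹ * m₁) * m⁻¹ ∈ P.B ⊓ P.N := conj_mem_T P hm.1 ⟨h3, h3N⟩
  have h5 : l'.prod * (m * ((l'.prod * m)⁻¹ * m₁) * m⁻¹) ∈ G₁ := by
    have : l'.prod * (m * ((l'.prod * m)⁻¹ * m₁) * m⁻¹) = m₁ * m⁻¹ := by group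
    rw [this]
    exact G₁.mul_mem hm1 (G₁.inv_mem hm.2)
  rcases hT.sub s hs l' hl' _ h4 h5 with k | k
  · -- `l'.prod ∈ B`
    have h6 : InDC P m (s * b * m) := by
      obtain ⟨x, hx, y, hy, e'⟩ := h
      exact ⟨x * l'.prod, P.B.mul_mem hx k, y, hy, by rw [e']; group⟩
    obtain ⟨b₁, hb₁, b₂, hb₂, e'⟩ := inDC_descend hS hT hg hm h6
    exact ⟨b₁, hb₁, b₂, hb₂, Or.inr e'⟩
  · -- `s⁻¹ * l'.prod ∈ B`
    have k' : m⁻¹ * (s⁻¹ * l'.prod) * m ∈ P.B :=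
      (conj_mem_T' P hm.1 ⟨k, P.N.mul_mem (P.N.inv_mem hsN) hl'N⟩).1
    have h6 : InDC P (s * m) (s * b * m) := by
      obtain ⟨x, hx, y, hy, e'⟩ := h
      refine ⟨x, hx, (m⁻¹ * (s⁻¹ * l'.prod) * m) * y, P.B.mul_mem k' hy, ?_⟩
      rw [e']; group
    obtain ⟨b₁, hb₁, b₂, hb₂, e'⟩ := inDC_descend hS hT hg
      ⟨P.N.mul_mem hsN hm.1, G₁.mul_mem hsG hm.2⟩ h6
    exact ⟨b₁, hb₁, b₂, hb₂, Or.inl e'⟩

/-- `G₁ = B₁ N₁ B₁` -/
theorem mem_sup (hS : Sharp P U V) (hT : Twist P U V G₁ S₁ wd) (g : ↥G₁) :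
    g ∈ (P.B ⊓ G₁).subgroupOf G₁ ⊔ (P.N ⊓ G₁).subgroupOf G₁ := by
  obtain ⟨u, hu, m₁, hm₁, v, hv, hvV, e⟩ := hS.ex (g : G)
  obtain ⟨hu1, hm1, hv1⟩ := hT.form u hu m₁ hm₁ v hv hvV (e ▸ g.2)
  have e' : g = (⟨u, hu1⟩ : ↥G₁) * ⟨m₁, hm1⟩ * ⟨v, hv1⟩ := Subtype.ext (by simpa using e)
  rw [e']
  refine Subgroup.mul_mem _ (Subgroup.mul_mem _ (Subgroup.mem_sup_left ?_) (Subgroup.mem_sup_right ?_))
    (Subgroup.mem_sup_left ?_)
  · exact Subgroup.mem_subgroupOf.2 ⟨hS.U_le hu, hu1⟩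
  · exact Subgroup.mem_subgroupOf.2 ⟨hm₁, hm1⟩
  · exact Subgroup.mem_subgroupOf.2 ⟨hS.U_le hv, hv1⟩

/-- **Descent theorem**: the (B,N)-pair of `G₁`. -/
noncomputable def bnPair (hS : Sharp P U V) (hT : Twist P U V G₁ S₁ wd) : Cfsg.BNPair ↥G₁ where
  B := (P.B ⊓ G₁).subgroupOf G₁
  N := (P.N ⊓ G₁).subgroupOf G₁
  S := {x | (x : G) ∈ S₁}
  sup_eq_top := by
    rw [eq_top_iff]
    intro g _
    exact mem_sup hS hT g
  conj_mem := by
    intro m hm t ht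
    rw [Subgroup.mem_subgroupOf] at hm
    rw [Subgroup.mem_inf, Subgroup.mem_subgroupOf, Subgroup.mem_subgroupOf] at ht
    rw [Subgroup.mem_subgroupOf]
    refine ⟨?_, (m * t * m⁻¹).2⟩
    simpa using P.conj_mem m hm.1 t ⟨ht.1.1, ht.2.1⟩
  subset := by
    intro s hs
    exact Subgroup.mem_subgroupOf.2 ⟨(hT.S_mem _ hs).1, s.2⟩
  sq_mem := by
    intro s hs
    rw [Subgroup.mem_subgroupOf]
    exact ⟨by simpa using hT.sq _ hs, (s * s).2⟩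
  inj := by
    intro s hs s' hs' h
    rw [Subgroup.mem_subgroupOf] at h
    exact Subtype.ext (hT.inj _ hs _ hs' (by simpa using h.1))
  closure_sup := by
    apply le_antisymm
    · refine sup_le ?_ inf_le_right
      rw [Subgroup.closure_le]
      intro s hs
      exact Subgroup.mem_subgroupOf.2 ⟨(hT.S_mem _ hs).1, s.2⟩
    · intro x hx
      rw [Subgroup.mem_subgroupOf] at hx
      obtain ⟨c, hc, hct⟩ := hT.gen _ hx
      have hS₁ : S₁ ⊆ (G₁ : Set G) := fun s hs => (hT.S_mem s hs).2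
      have hcl : Subgroup.closure S₁ = (Subgroup.closure {x : ↥G₁ | (x : G) ∈ S₁}).map G₁.subtype := by
        rw [MonoidHom.map_closure]
        congr 1
        ext y
        constructor
        · intro hy
          exact ⟨⟨y, hS₁ hy⟩, hy, rfl⟩
        · rintro ⟨z, hz, rfl⟩
          exact hz
      rw [hcl] at hc
      obtain ⟨c', hc', rfl⟩ := hc
      have hc'N : (c' : G) ∈ P.N := by
        have h2 : Subgroup.closure {x : ↥G₁ | (x : G) ∈ S₁} ≤ (P.N ⊓ G₁).subgroupOf G₁ := by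
          rw [Subgroup.closure_le]
          intro s hs
          exact Subgroup.mem_subgroupOf.2 ⟨(hT.S_mem _ hs).1, s.2⟩
        exact (Subgroup.mem_subgroupOf.1 (h2 hc')).1
      have e' : x = c' * (c'⁻¹ * x) := by group
      rw [e']
      refine Subgroup.mul_mem _ (Subgroup.mem_sup_left hc') (Subgroup.mem_sup_right ?_)
      rw [Subgroup.mem_inf, Subgroup.mem_subgroupOf, Subgroup.mem_subgroupOf]
      have h3 : ((c'⁻¹ * x : ↥G₁) : G) = (G₁.subtype c')⁻¹ * (x : G) := by simp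
      rw [h3]
      exact ⟨⟨hct, (G₁.mul_mem (G₁.inv_mem c'.2) x.2)⟩,
        ⟨P.N.mul_mem (P.N.inv_mem hc'N) hx.1, (G₁.mul_mem (G₁.inv_mem c'.2) x.2)⟩⟩
  mul_mem_union := by
    intro s hs m hm b hb
    rw [Subgroup.mem_subgroupOf] at hm hb
    obtain ⟨b₁, hb₁, b₂, hb₂, h⟩ := exchange hS hT hs hm hb
    rcases h with h | h
    · left
      rw [DoubleCoset.mem_doubleCoset]
      exact ⟨⟨b₁, hb₁.2⟩, Subgroup.mem_subgroupOf.2 hb₁, ⟨b₂, hb₂.2⟩, Subgroup.mem_subgroupOf.2 hb₂,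
        Subtype.ext (by simpa using h)⟩
    · right
      rw [DoubleCoset.mem_doubleCoset]
      exact ⟨⟨b₁, hb₁.2⟩, Subgroup.mem_subgroupOf.2 hb₁, ⟨b₂, hb₂.2⟩, Subgroup.mem_subgroupOf.2 hb₂,
        Subtype.ext (by simpa using h)⟩
  conj_ne := by
    intro s hs h
    obtain ⟨b, hb, hne⟩ := hT.ne _ hs
    have h1 : s * ⟨b, hb.2⟩ * s ∈ (fun b : ↥G₁ => s * b * s) '' (((P.B ⊓ G₁).subgroupOf G₁ : Subgroup ↥G₁) : Set ↥G₁) :=
      ⟨⟨b, hb.2⟩, Subgroup.mem_subgroupOf.2 hb, rfl⟩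
    rw [h] at h1
    have h2 := (Subgroup.mem_subgroupOf.1 h1).1
    exact hne (by simpa using h2)

@[simp] lemma bnPair_B (hS : Sharp P U V) (hT : Twist P U V G₁ S₁ wd) :
    (bnPair hS hT).B = (P.B ⊓ G₁).subgroupOf G₁ := rfl
@[simp] lemma bnPair_N (hS : Sharp P U V) (hT : Twist P U V G₁ S₁ wd) :
    (bnPair hS hT).N = (P.N ⊓ G₁).subgroupOf G₁ := rfl
@[simp] lemma bnPair_S (hS : Sharp P U V) (hT : Twist P U V G₁ S₁ wd) :
    (bnPair hS hT).S = {x : ↥G₁ | (x : G) ∈ S₁} := rfl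

end Twist

end Cfsg.Agent.Lib.Helper42.ClBN
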