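import Mathlib
import Cfsg.Agent.Lib.Helper5.BNStRes
import Cfsg.Agent.Lib.Helper77.Deflation
import Cfsg.Agent.Lib.Helper78.CharOrtho

/-!
# The Steinberg character of a finite group with a split (B,N)-pair of characteristic `p`

`B = U ⋊ T`, `U` a `p`-group, `T = B ∩ N = B ∩ n₀Bn₀⁻¹` a `p'`-group.  Then `U` is a Sylow
`p`-subgroup, and `G ⧸ Z(G)` has an irreducible character of degree `|U|` vanishing on the
non-identity elements of every Sylow `p`-subgroup.
-/

set_option autoImplicit false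

namespace Cfsg.Agent.Lib.Helper42.ClBN

open Cfsg Cfsg.Agent.Lib.Helper6 Cfsg.Agent.Lib.Helper5.BNSt Cfsg.Agent.Lib.Helper5.CoxEx

universe u

section general

variable {G : Type u} [Group G] (P : Cfsg.BNPair G)

/-- a subgroup containing `B` and no distinguished generator is `B` -/
lemma eq_B_of_no_S {M : Subgroup G} (hM : P.B ≤ M) (h : ∀ s ∈ P.S, s ∉ M) : M = P.B := by
  rw [eq_parabolic_of_B_le P hM]
  have h1 : {s | s ∈ P.S ∧ s ∈ M} = (∅ : Set G) := by
    ext s
    simp only [Set.mem_ofPred_eq, Set.mem_empty_iff_false, iff_false, not_and]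
    exact h s
  rw [h1]
  unfold BNPair.parabolic
  simp

variable (U T : Subgroup G)

/-- the normaliser of `U` is `B` -/
lemma normalizer_le_B [Finite G] (hT : T = P.B ⊓ P.N) (hUB : U ≤ P.B)
    (hUT : ∀ b ∈ P.B, ∃ u ∈ U, ∃ t ∈ T, b = u * t) (hUn : ∀ b ∈ P.B, ∀ u ∈ U, b * u * b⁻¹ ∈ U) :
    Subgroup.normalizer (U : Set G) ≤ P.B := by
  have hBM : P.B ≤ Subgroup.normalizer (U : Set G) := by
    intro b hb
    rw [Subgroup.mem_normalizer_iff]
    intro h
    constructor
    · exact fun hh => hUn b hb h hh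
    · intro hh
      have := hUn b⁻¹ (P.B.inv_mem hb) _ hh
      have e : b⁻¹ * (b * h * b⁻¹) * b⁻¹⁻¹ = h := by group
      rwa [e] at this
  have key : Subgroup.normalizer (U : Set G) = P.B := by
    apply eq_B_of_no_S P hBM
    intro s hs hsM
    rw [Subgroup.mem_normalizer_iff] at hsM
    apply P.conj_ne s hs
    have hsub : (fun b : G => s * b * s) '' (P.B : Set G) ⊆ (P.B : Set G) := by
      rintro _ ⟨b, hb, rfl⟩
      obtain ⟨u, hu, t, ht, rfl⟩ := hUT b hb
      have e : s * (u * t) * s = (s * u * s⁻¹) * (s * t * s⁻¹) * (s * s) := by group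
      show s * (u * t) * s ∈ P.B
      rw [e]
      refine P.B.mul_mem (P.B.mul_mem (hUB ((hsM u).1 hu)) ?_) (P.sq_mem s hs)
      exact P.conj_mem s (P.subset hs) t (hT ▸ ht)
    have hfin : (P.B : Set G).Finite := Set.toFinite _
    apply Set.eq_of_subset_of_ncard_le hsub _ hfin
    rw [Set.ncard_image_of_injective]
    intro a b hab
    simpa using hab
  exact key.le

/-- `|B| = |U| |T|` -/
lemma card_B_eq (hTB : T ≤ P.B) (hUB : U ≤ P.B)
    (hUT : ∀ b ∈ P.B, ∃ u ∈ U, ∃ t ∈ T, b = u * t) (hUT' : U ⊓ T = ⊥) :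
    Nat.card P.B = Nat.card U * Nat.card T := by
  rw [← Nat.card_prod]
  symm
  refine Nat.card_congr (Equiv.ofBijective
    (fun x : ↥U × ↥T => (⟨(x.1 : G) * (x.2 : G), P.B.mul_mem (hUB x.1.2) (hTB x.2.2)⟩ : ↥P.B)) ⟨?_, ?_⟩)
  · rintro ⟨u, t⟩ ⟨u', t'⟩ h
    have h' : (u : G) * (t : G) = (u' : G) * (t' : G) := congrArg Subtype.val h
    have h1 : (u' : G)⁻¹ * (u : G) = (t' : G) * (t : G)⁻¹ := by
      calc (u' : G)⁻¹ * (u : G) = (u' : G)⁻¹ * ((u : G) * (t : G)) * (t : G)⁻¹ := by group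
        _ = (t' : G) * (t : G)⁻¹ := by rw [h']; group
    have h2 : (u' : G)⁻¹ * (u : G) ∈ U ⊓ T :=
      ⟨U.mul_mem (U.inv_mem u'.2) u.2, h1 ▸ T.mul_mem t'.2 (T.inv_mem t.2)⟩
    rw [hUT', Subgroup.mem_bot] at h2
    have hu : (u : G) = (u' : G) := by
      calc (u : G) = (u' : G) * ((u' : G)⁻¹ * (u : G)) := by group
        _ = (u' : G) := by rw [h2, mul_one]
    have ht : (t : G) = (t' : G) := by
      have : (t' : G) * (t : G)⁻¹ = 1 := by rw [← h1, h2]
      calc (t : G) = ((t' : G) * (t : G)⁻¹)⁻¹ * (t' : G) := by group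
        _ = (t' : G) := by rw [this]; simp
    exact Prod.ext (Subtype.ext hu) (Subtype.ext ht)
  · rintro ⟨b, hb⟩
    obtain ⟨u, hu, t, ht, rfl⟩ := hUT b hb
    exact ⟨(⟨u, hu⟩, ⟨t, ht⟩), rfl⟩

/-- `U` is a Sylow `p`-subgroup: every Sylow `p`-subgroup has the order of `U` -/
lemma card_sylow_eq [Finite G] (hT : T = P.B ⊓ P.N) (hUB : U ≤ P.B)
    (hUT : ∀ b ∈ P.B, ∃ u ∈ U, ∃ t ∈ T, b = u * t) (hUT' : U ⊓ T = ⊥)
    (hUn : ∀ b ∈ P.B, ∀ u ∈ U, b * u * b⁻¹ ∈ U)
    (p : ℕ) [Fact p.Prime] (hUp : IsPGroup p U) (hTp : ¬ p ∣ Nat.card T) (Q : Sylow p G) :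
    Nat.card Q = Nat.card U := by
  have hTB : T ≤ P.B := hT ▸ inf_le_left
  obtain ⟨Q₀, hQ₀⟩ := hUp.exists_le_sylow
  have hQQ : Nat.card Q = Nat.card Q₀ := by
    rw [Sylow.card_eq_multiplicity, Sylow.card_eq_multiplicity]
  rw [hQQ]
  by_contra hne
  have hlt : U < (Q₀ : Subgroup G) := by
    refine lt_of_le_of_ne hQ₀ ?_
    intro h
    apply hne
    rw [← h]
  -- the normaliser of `U` in `Q₀` is bigger than `U`
  have hnil : Group.IsNilpotent ↥(Q₀ : Subgroup G) := Q₀.isPGroup'.isNilpotent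
  have hnc := Group.normalizerCondition_of_isNilpotent (G := ↥(Q₀ : Subgroup G))
  have hlt' : U.subgroupOf (Q₀ : Subgroup G) < ⊤ := by
    rw [lt_top_iff_ne_top]
    intro h
    rw [Subgroup.subgroupOf_eq_top] at h
    exact absurd (le_antisymm hQ₀ h) (ne_of_lt hlt)
  have h1 := hnc _ hlt'
  obtain ⟨x, hxN, hxU⟩ := SetLike.exists_of_lt h1
  -- `R = ⟨U, x⟩`-like subgroup: `R = normalizer U ⊓ Q₀`
  set R : Subgroup G := Subgroup.normalizer (U : Set G) ⊓ (Q₀ : Subgroup G) with hR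
  have hxR : (x : G) ∈ R := by
    refine ⟨?_, x.2⟩
    show (x : G) ∈ Subgroup.normalizer (U : Set G)
    rw [Subgroup.mem_normalizer_iff] at hxN ⊢
    intro h
    constructor
    · intro hh
      have := (hxN ⟨h, hQ₀ hh⟩).1 (Subgroup.mem_subgroupOf.2 hh)
      simpa [Subgroup.mem_subgroupOf] using this
    · intro hh
      have hhQ : h ∈ (Q₀ : Subgroup G) := by
        have h2 : (x : G) * h * (x : G)⁻¹ ∈ (Q₀ : Subgroup G) := hQ₀ hh
        have e : h = (x : G)⁻¹ * ((x : G) * h * (x : G)⁻¹) * (x : G) := by group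
        rw [e]
        exact Subgroup.mul_mem _ (Subgroup.mul_mem _ (Subgroup.inv_mem _ x.2) h2) x.2
      have := (hxN ⟨h, hhQ⟩).2 (by simpa [Subgroup.mem_subgroupOf] using hh)
      simpa [Subgroup.mem_subgroupOf] using this
  have hUR : U ≤ R := le_inf (Subgroup.le_normalizer) hQ₀
  have hRB : R ≤ P.B := inf_le_left.trans (normalizer_le_B P U T hT hUB hUT hUn)
  have hRp : IsPGroup p R := Q₀.isPGroup'.to_le inf_le_right
  obtain ⟨k, hk⟩ := hRp.exists_card_eq
  have hdvd : Nat.card R ∣ Nat.card U * Nat.card T := by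
    rw [← card_B_eq P U T hTB hUB hUT hUT']
    exact Subgroup.card_dvd_of_le hRB
  have hcop : Nat.Coprime (Nat.card R) (Nat.card T) := by
    rw [hk]
    exact Nat.Coprime.pow_left _ ((Nat.Prime.coprime_iff_not_dvd Fact.out).2 hTp)
  have hdvd' : Nat.card R ∣ Nat.card U := hcop.dvd_of_dvd_mul_right hdvd
  have hle : Nat.card R ≤ Nat.card U := Nat.le_of_dvd Nat.card_pos hdvd'
  have hUR' : U = R := by
    have := Subgroup.card_le_of_le hUR
    exact Subgroup.eq_of_le_of_card_ge hUR hle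
  apply hxU
  rw [Subgroup.mem_subgroupOf, hUR']
  exact hxR

end general

section steinberg

variable {G : Type u} [Group G] [Fintype G] (P : Cfsg.BNPair G)

/-- a central element lying in `H` fixes all cosets of `H` -/
lemma fpc_center {K : Type*} [Group K] (H : Subgroup K) (c : K)
    (hc : c ∈ Subgroup.center K) (hH : c ∈ H) :
    fixedPointCharacter H c = fixedPointCharacter H 1 := by
  unfold fixedPointCharacter
  have h1 : MulAction.fixedBy (K ⧸ H) c = Set.univ := by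
    ext a
    simp only [Set.mem_univ, iff_true, MulAction.mem_fixedBy]
    induction a using QuotientGroup.induction_on with
    | H x =>
      show ((c * x : K) : K ⧸ H) = (x : K ⧸ H)
      rw [QuotientGroup.eq]
      have : (c * x)⁻¹ * x = c⁻¹ := by
        rw [← (Subgroup.mem_center_iff.mp hc x)]
        group
      rw [this]
      exact H.inv_mem hH
  rw [h1, MulAction.fixedBy_one_eq_univ]

/-- **The Steinberg character of `G ⧸ Z(G)`** for a finite group with a split (B,N)-pair of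
characteristic `p`. -/
theorem exists_steinberg_quot
    {ι : Type} [Fintype ι] [DecidableEq ι] (σ : ι → G) (hσ : ∀ i, σ i ∈ P.S) (hS : ∀ s ∈ P.S, ∃ i, σ i = s)
    {n₀ : G} (hn₀ : n₀ ∈ P.N) (hlong : IsLongest (SW P) (clG P n₀))
    (U T : Subgroup G) (hT : T = P.B ⊓ P.N) (hTn : ∀ b ∈ P.B, (n₀⁻¹ * b * n₀ ∈ P.B ↔ b ∈ T))
    (hUB : U ≤ P.B) (hUT : ∀ b ∈ P.B, ∃ u ∈ U, ∃ t ∈ T, b = u * t) (hUT' : U ⊓ T = ⊥)
    (hUn : ∀ b ∈ P.B, ∀ u ∈ U, b * u * b⁻¹ ∈ U)
    (p : ℕ) [Fact p.Prime] (hUp : IsPGroup p U) (hTp : ¬ p ∣ Nat.card T) :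
    ∃ χ : G ⧸ Subgroup.center G → ℂ, IsIrrCharacter (G ⧸ Subgroup.center G) χ ∧
      ∀ Q : Sylow p (G ⧸ Subgroup.center G), χ 1 = Nat.card Q ∧
        ∀ x : G ⧸ Subgroup.center G, x ∈ Q → x ≠ 1 → χ x = 0 := by
  classical
  have hTB : T ≤ P.B := hT ▸ inf_le_left
  have hirr := isIrrCharacter_stChar P σ hσ hS
  set χ := stChar P σ with hχ
  set H' : Subgroup ↥P.B := T.subgroupOf P.B with hH'def
  have hH' : ∀ b' : ↥P.B, b' ∈ H' ↔ n₀⁻¹ * (b' : G) * n₀ ∈ P.B := by
    intro b'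
    rw [hH'def, Subgroup.mem_subgroupOf]
    exact (hTn b' b'.2).symm
  have hres : ∀ b : ↥P.B, χ (b : G) = fixedPointCharacter H' b :=
    fun b => stChar_restrict_B P σ hσ hS hn₀ hlong H' hH' b
  -- degree
  have hcardH' : Nat.card H' = Nat.card T :=
    Nat.card_congr (Subgroup.subgroupOfEquivOfLe hTB).toEquiv
  have hdeg : χ 1 = (Nat.card U : ℂ) := by
    have h1 := hres 1
    rw [Subgroup.coe_one] at h1
    rw [h1]
    unfold fixedPointCharacter
    rw [MulAction.fixedBy_one_eq_univ, Nat.card_congr (Equiv.Set.univ _)]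
    congr 1
    have h2 : Nat.card H' * Nat.card (↥P.B ⧸ H') = Nat.card ↥P.B := by
      rw [← Subgroup.index_eq_card]
      exact Subgroup.card_mul_index H'
    rw [hcardH', card_B_eq P U T hTB hUB hUT hUT', mul_comm] at h2
    exact Nat.eq_of_mul_eq_mul_right Nat.card_pos h2
  -- vanishing on `U`
  have hvan : ∀ u ∈ U, u ≠ 1 → χ u = 0 := by
    intro u hu hu1
    have h1 := hres ⟨u, hUB hu⟩
    rw [show ((⟨u, hUB hu⟩ : ↥P.B) : G) = u from rfl] at h1
    rw [h1]
    unfold fixedPointCharacter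
    have hempty : MulAction.fixedBy (↥P.B ⧸ H') (⟨u, hUB hu⟩ : ↥P.B) = ∅ := by
      ext a
      simp only [Set.mem_empty_iff_false, iff_false, MulAction.mem_fixedBy]
      induction a using QuotientGroup.induction_on with
      | H x =>
        intro hfix
        have hfix' : (((⟨u, hUB hu⟩ : ↥P.B) * x : ↥P.B) : ↥P.B ⧸ H') = (x : ↥P.B ⧸ H') := hfix
        rw [QuotientGroup.eq, hH'def, Subgroup.mem_subgroupOf] at hfix'
        have e : (((⟨u, hUB hu⟩ * x)⁻¹ * x : ↥P.B) : G) = (x : G)⁻¹ * u⁻¹ * (x : G)⁻¹⁻¹ := by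
          simp [mul_assoc]
        rw [e] at hfix'
        have h2 : (x : G)⁻¹ * u⁻¹ * (x : G)⁻¹⁻¹ ∈ U ⊓ T :=
          ⟨hUn _ (P.B.inv_mem x.2) _ (U.inv_mem hu), hfix'⟩
        rw [hUT', Subgroup.mem_bot] at h2
        apply hu1
        have : u⁻¹ = 1 := by
          calc u⁻¹ = (x : G) * ((x : G)⁻¹ * u⁻¹ * (x : G)⁻¹⁻¹) * (x : G)⁻¹ := by group
            _ = 1 := by rw [h2]; group
        exact inv_eq_one.mp this
    rw [hempty]
    simp
  -- the centre is in the kernel
  have hcent : ∀ z ∈ Subgroup.center G, χ z = χ 1 := by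
    intro z hz
    have hzN : z ∈ Subgroup.normalizer (U : Set G) := by
      rw [Subgroup.mem_normalizer_iff]
      intro h
      have : z * h * z⁻¹ = h := by
        rw [← Subgroup.mem_center_iff.mp hz h]; group
      rw [this]
    have hzB : z ∈ P.B := normalizer_le_B P U T hT hUB hUT hUn hzN
    have hzT : z ∈ T := by
      apply (hTn z hzB).1
      have : n₀⁻¹ * z * n₀ = z := by
        rw [mul_assoc, ← Subgroup.mem_center_iff.mp hz n₀]; group
      rw [this]
      exact hzB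
    have h1 := hres ⟨z, hzB⟩
    have h2 := hres 1
    rw [Subgroup.coe_one] at h2
    rw [show ((⟨z, hzB⟩ : ↥P.B) : G) = z from rfl] at h1
    rw [h1, h2]
    apply fpc_center
    · rw [Subgroup.mem_center_iff]
      intro g
      exact Subtype.ext (Subgroup.mem_center_iff.mp hz g)
    · rw [hH'def, Subgroup.mem_subgroupOf]
      exact hzT
  obtain ⟨χ', hχ'irr, hχ'⟩ := Cfsg.Agent.Lib.Helper77.isIrrCharacter_deflate (Subgroup.center G) hirr hcent
  refine ⟨χ', hχ'irr, ?_⟩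
  -- the Sylow subgroups of the quotient
  obtain ⟨Q₀, hQ₀⟩ := hUp.exists_le_sylow
  have hQ₀card : Nat.card Q₀ = Nat.card U := card_sylow_eq P U T hT hUB hUT hUT' hUn p hUp hTp Q₀
  have hQ₀U : (Q₀ : Subgroup G) = U := (Subgroup.eq_of_le_of_card_ge hQ₀ (le_of_eq hQ₀card)).symm
  have hZT : Subgroup.center G ≤ T := by
    intro z hz
    have hzN : z ∈ Subgroup.normalizer (U : Set G) := by
      rw [Subgroup.mem_normalizer_iff]
      intro h
      have : z * h * z⁻¹ = h := by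
        rw [← Subgroup.mem_center_iff.mp hz h]; group
      rw [this]
    have hzB : z ∈ P.B := normalizer_le_B P U T hT hUB hUT hUn hzN
    apply (hTn z hzB).1
    have : n₀⁻¹ * z * n₀ = z := by
      rw [mul_assoc, ← Subgroup.mem_center_iff.mp hz n₀]; group
    rw [this]
    exact hzB
  have hZp : ¬ p ∣ Nat.card (Subgroup.center G) := fun h =>
    hTp (h.trans (Subgroup.card_dvd_of_le hZT))
  intro Q
  have hp : p.Prime := Fact.out
  have hcardQ : Nat.card Q = Nat.card U := by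
    rw [← hQ₀card, Sylow.card_eq_multiplicity, Sylow.card_eq_multiplicity]
    congr 1
    have h1 : Nat.card G = Nat.card (G ⧸ Subgroup.center G) * Nat.card (Subgroup.center G) :=
      Subgroup.card_eq_card_quotient_mul_card_subgroup _
    rw [h1, Nat.factorization_mul Nat.card_pos.ne' Nat.card_pos.ne']
    simp only [Finsupp.coe_add, Pi.add_apply]
    rw [Nat.factorization_eq_zero_of_not_dvd hZp, add_zero]
  refine ⟨?_, ?_⟩
  · have h1 := hχ' 1
    rw [QuotientGroup.mk_one] at h1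
    rw [h1, hdeg, hcardQ]
  · intro x hx hx1
    set π := QuotientGroup.mk' (Subgroup.center G) with hπ
    have hπs : Function.Surjective π := QuotientGroup.mk'_surjective _
    obtain ⟨y, hy⟩ := MulAction.exists_smul_eq (G ⧸ Subgroup.center G) (Q₀.mapSurjective hπs) Q
    obtain ⟨g, rfl⟩ := hπs y
    have hx' : x ∈ ((π g • (Q₀.mapSurjective hπs) : Sylow p (G ⧸ Subgroup.center G)) :
        Subgroup (G ⧸ Subgroup.center G)) := by
      rw [hy]; exact hx
    rw [Sylow.coe_subgroup_smul, Subgroup.mem_smul_pointwise_iff_exists] at hx'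
    obtain ⟨h, hh, hhx⟩ := hx'
    have hh' : h ∈ ((Q₀ : Subgroup G).map π) := hh
    obtain ⟨u, hu, rfl⟩ := hh'
    rw [hQ₀U] at hu
    have hxeq : x = π (g * u * g⁻¹) := by
      rw [map_mul, map_mul, map_inv, ← hhx]
      rfl
    have hu1 : u ≠ 1 := by
      rintro rfl
      apply hx1
      rw [hxeq]; simp
    rw [hxeq]
    show χ' ((g * u * g⁻¹ : G) : G ⧸ Subgroup.center G) = 0
    rw [hχ']
    have hcf : IsClassFunction G χ := Cfsg.Agent.Lib.Helper78.isClassFunction_irr ⟨χ, hirr⟩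
    rw [hcf u g]
    exact hvan u hu hu1

end steinberg

end Cfsg.Agent.Lib.Helper42.ClBN
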